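import Cfsg.Agent.TAB.Glue.Main
import Cfsg.Agent.TAB.Use.Main
import Cfsg.Agent.ODD.Red.Bas
import Cfsg.Agent.H133.FibPce
import Cfsg.Agent.H95.StemCover

/-!
# Triple covers (helper16, TAB)

* `cov_of_one` : `OddRat` for one perfect triple cover gives `OddRatCov`;
* `glueF` : the glue lemma for a function of norm `1 / q`; `glueC`, `virt_glueC` for tables given by columns;
* `oddRat_of_rows`, `oddRat_of_cols` : `OddRat` for a triple cover without its table.  If a faithful character `χ` is
  moved by `τ`, then `χ`, `τ χ` and their complex conjugates have the same multiplicity in every rational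
  generalized character.
-/

set_option autoImplicit false

namespace Cfsg.Agent.TAB.Cov

open Cfsg Cfsg.Agent.TAB.Eng Cfsg.Agent.TAB.Use Cfsg.Agent.TAB.Glue Cfsg.Agent.Characters
open Cfsg.Agent.Characters.Core Cfsg.Agent.Characters.Brauer Cfsg.Agent.H447.CTab
open scoped ComplexConjugate

universe u v

theorem oddRat_equiv {X : Type u} {Y : Type v} [Group X] [Group Y] (e : X ≃* Y) (h : OddRat Y) : OddRat X := by
  intro χ h1 h2 τ hτ g
  have h3 := h (χ ∘ e.symm) (isIrr_comp e.symm.toMonoidHom e.symm.surjective h1)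
    (by rwa [ODD.Red.charDegree_congr (ψ := χ) (by simp)]) τ hτ (e g)
  simpa using h3

/-- **one triple cover suffices** -/
theorem cov_of_one {G : Type u} [Group G] {n : ℕ} (hm : HasCyclicSchurMultiplier G n) (hn : ¬ 9 ∣ n) {X : Type v}
    [Group X] [Finite X] {π : X →* G} (h1 : Function.Surjective π) (h2 : π.ker ≤ Subgroup.center X)
    (h3 : Nat.card π.ker = 3) (h4 : commutator X = ⊤) (h : OddRat X) : OddRatCov G := by
  intro Y _ _ φ a1 a2 a3 a4
  rcases H133.FibPce.dichotomy (π := φ) (ρ := π) ⟨a1, a2, a4⟩ ⟨h1, h2, h4⟩ (h3 ▸ Nat.prime_three) (a3.trans h3.symm)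
    with h5 | ⟨e, -⟩
  · have h6 := H95.StemCover.card_ker_dvd_cyclic hm h5 _ (H133.FibPce.pj_surj a1 h1) (H133.FibPce.pj_ker a2 h2)
    rw [Nat.card_congr (H133.FibPce.kerFib φ π).toEquiv, Nat.card_prod, a3, h3] at h6
    exact absurd h6 hn
  · exact oddRat_equiv e h

/-! ### The glue lemma with a smaller budget -/

/-- the check: no survivors -/
noncomputable def okQ (k : ℕ) (nm : List ℕ) (lv : List Lv) (L q : ℕ) : Bool :=
  frc (lv.map Lv.d).prod fun e => frc (L * e * e / q) fun B =>
    decide (0 < e) && decide (0 < L) && decide (0 < q) && decide (lv.map Lv.j).Nodup &&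
    allL (fun l => decide (l.j < k) && l.w * ntd nm 0 l.j == L) lv && dfs e (fun _ => false) lv B [] [] false

section glue

variable {G : Type u} [Group G] {D : Dat} {T : TD G D}

/-- the function has integral scalar products with all virtual functions of the type -/
def Intg [Fintype G] (T : TD G D) (φ : G → ℂ) : Prop :=
  ∀ f : ℕ → ℤ, Virt T f → ∃ z : ℤ, classInner (fun g => (f (T.ty g) : ℂ)) φ = z

/-- **the glue lemma for a function of norm `1 / q`** -/
theorem glueF [Fintype G] (hm : T.Mass) {rows : List (List ℤ)} {nm : List ℕ} (hO : Orth D rows nm) {lv : List Lv}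
    {L q : ℕ} (hc : okQ rows.length nm lv L q = true) (hv : ∀ x ∈ rels lv [], Virt T (nth (comb rows x)))
    {φ : G → ℂ} (hφ : q * classInner φ φ = 1) (hi : Intg T φ) :
    ∀ l ∈ lv, l.tg = true → ∃ z : ℤ, classInner (fn T (ntd rows [] l.j)) φ = z := by
  have he := virt_prod lv [] 1 (fun j hj => by cases hj) hv
  rw [okQ, frc_eq, frc_eq] at hc
  simp only [Bool.and_eq_true, decide_eq_true_eq, one_mul] at hc he
  obtain ⟨⟨⟨⟨⟨h0, hL⟩, hq⟩, hnd⟩, hlv⟩, hdfs⟩ := hc
  have hdv : ∀ l ∈ lv, l.d ∣ (lv.map Lv.d).prod := fun l hl => List.dvd_prod (List.mem_map_of_mem hl)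
  generalize (lv.map Lv.d).prod = e at *
  have hlv' : ∀ z ∈ wj lv, z.2 < rows.length ∧ z.1 * ntd nm 0 z.2 = L := fun z hz => by
    obtain ⟨l, hl, rfl⟩ := List.mem_map.1 hz
    simpa only [Bool.and_eq_true, decide_eq_true_eq, beq_iff_eq] using allL_spec hlv l hl
  have hsnd : (wj lv).map Prod.snd = lv.map Lv.j := by simp [wj]
  have he0 : (e : ℂ) ≠ 0 := by exact_mod_cast h0.ne'
  intro l0 hl0 htg
  have h1 : ∀ j, ∃ z : ℤ, j ∈ lv.map Lv.j → (z : ℂ) = e * classInner (fn T (ntd rows [] j)) φ := fun j => by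
    by_cases hj : j ∈ lv.map Lv.j
    · obtain ⟨l, hl, rfl⟩ := List.mem_map.1 hj
      obtain ⟨z, hz⟩ := hi _ (he l hl)
      refine ⟨z, fun _ => hz.symm.trans ?_⟩
      rw [← classInner_smul_left]
      congr 1
      funext g
      simp
    · exact ⟨0, fun h => absurd h hj⟩
  choose y hy using h1
  have h2 := ev_inner (T := T) (rows := rows) (e := e) (y := y) (ψ := φ) (c := cf y (wj lv)) fun p hp => by
    obtain ⟨z, hz, rfl⟩ := List.mem_map.1 hp
    exact hy _ (hsnd ▸ List.mem_map_of_mem hz)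
  rw [ev_cf] at h2
  have h3 : classInner (fn T (comb rows (cf y (wj lv)))) (fn T (comb rows (cf y (wj lv)))) = _ :=
    inner_of_ipF hm (ipF_cf_self hO y (wj lv) hlv' (hsnd ▸ hnd))
  have h4 : classInner (((q * L * e : ℕ) : ℂ) • φ - (q : ℂ) • fn T (comb rows (cf y (wj lv))))
      (((q * L * e : ℕ) : ℂ) • φ - (q : ℂ) • fn T (comb rows (cf y (wj lv)))) =
      ((q * L * (L * e * e - q * wsq y (wj lv)) : ℤ) : ℂ) := by
    have h5 := congrArg conj h2
    rw [map_mul, classInner_conj_symm, map_intCast, map_natCast] at h5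
    simp only [classInner_sub_left, classInner_sub_right, classInner_smul_left, classInner_smul_right, h3, map_natCast]
    push_cast
    linear_combination ((q : ℂ) * q * L) * h2 + ((q : ℂ) * q * L) * h5 + ((q : ℂ) * L * L * e * e) * hφ
  have h5 : wsq y (wj lv) ≤ (L * e * e / q : ℕ) := by
    rw [classInner_self_eq_ofReal] at h4
    have h6 : (0 : ℝ) ≤ ((q * L * (L * e * e - q * wsq y (wj lv)) : ℤ) : ℝ) := by
      have h7 := Complex.ofReal_injective (h4.trans (Complex.ofReal_intCast _).symm)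
      rw [← h7]
      exact mul_nonneg (inv_nonneg.2 (Nat.cast_nonneg _)) (Finset.sum_nonneg fun g _ => Complex.normSq_nonneg _)
    have h7 : (0 : ℤ) ≤ q * L * (L * e * e - q * wsq y (wj lv)) := by exact_mod_cast h6
    have h8 := nonneg_of_mul_nonneg_right h7 (by exact_mod_cast Nat.mul_pos hq hL)
    push_cast
    exact Int.le_ediv_of_mul_le (by exact_mod_cast hq) (by linarith)
  rcases dfs_sound h0 y _ lv [] _ [] [] false (fun l hl => ⟨Nat.pos_of_dvd_of_pos (hdv l hl) h0, hdv l hl⟩)
    (fun x hx => by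
      have h6 := ev_inner (T := T) (rows := rows) (c := x) fun p hp =>
        hy _ ((rels_idx lv [] x hx p hp).resolve_left List.not_mem_nil)
      obtain ⟨z, hz⟩ := hi _ (hv x hx)
      rw [show classInner (fn T (comb rows x)) φ = _ from hz] at h6
      exact ⟨z, by exact_mod_cast h6⟩) h5 List.Forall₂.nil (fun z hz => by cases hz) hdfs with ⟨-, h6⟩ | ⟨zs, h6, -⟩
  · obtain ⟨k, hk⟩ := h6 l0 hl0 htg
    refine ⟨k, mul_left_cancel₀ he0 ?_⟩
    rw [← hy _ (List.mem_map_of_mem hl0), hk, Int.cast_mul, Int.cast_natCast]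
  · cases h6

theorem ntd_rwL (C : List (List ℤ)) {k j : ℕ} (h : j < k) : nth (ntd ((List.range k).map (rwL C)) [] j) = rw C j := by
  rw [ntd_eq _ _ (by simpa using h), List.getElem_map, List.getElem_range, nth_rwL]

theorem comb_rwL (C : List (List ℤ)) {k : ℕ} {c : List (ℤ × ℕ)} (h : ∀ p ∈ c, p.2 < k) :
    nth (comb ((List.range k).map (rwL C)) c) = cmb C c := by
  induction c with
  | nil => rfl
  | cons p c ih =>
    funext t
    rw [nth_comb_cons, cmb_cons, ih fun q hq => h q (List.mem_cons_of_mem _ hq), ntd_rwL C (h p List.mem_cons_self)]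

theorem rw_take (C : List (List ℤ)) {k i : ℕ} (h : i < k) : rw (C.map (List.take k)) i = rw C i := by
  funext t
  induction C generalizing t with
  | nil => rfl
  | cons c C ih => cases t with
    | zero =>
      show nth (c.take k) i = nth c i
      rw [nth_eq, nth_eq, List.getD_eq_getElem?_getD, List.getD_eq_getElem?_getD, List.getElem?_take_of_lt h]
    | succ t => exact ih t

theorem ntd_pair (nm : List ℕ) (j : ℕ) : ntd (nm.map fun n => (n, 0)) ((0, 0) : ℕ × ℕ) j = (ntd nm 0 j, 0) := by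
  induction nm generalizing j with
  | nil => rfl
  | cons n nm ih => cases j with
    | zero => rfl
    | succ j => exact ih j

/-- the first rows of the table are orthogonal -/
theorem orth_of_chkG (hL : D.okLen) {C : List (List ℤ)} {nm : List ℕ} {mx B : ℕ}
    (h : chkG D (C.map (List.take nm.length)) (nm.map fun n => (n, 0)) mx B = true) :
    Orth D ((List.range nm.length).map (rwL C)) nm := by
  intro i hi j hj
  rw [List.length_map, List.length_range] at hi hj
  have h1 := (gram_of_chkG hL h).2 i (by rwa [List.length_map]) j (by rwa [List.length_map])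
  rw [rw_take C hi, rw_take C hj] at h1
  rw [rj, rj, ntd_rwL C hi, ntd_rwL C hj, h1, gam, mF, sF, ntd_pair]
  split_ifs with h2 h3
  · rfl
  · exact absurd rfl h3.2
  · exact mul_zero _

theorem okQ_lt {k : ℕ} {nm : List ℕ} {lv : List Lv} {L q : ℕ} (hc : okQ k nm lv L q = true) :
    ∀ x ∈ rels lv [], ∀ p ∈ x, p.2 < k := by
  intro x hx p hp
  rw [okQ, frc_eq, frc_eq] at hc
  simp only [Bool.and_eq_true] at hc
  obtain ⟨l, hl, h1⟩ := List.mem_map.1 ((rels_idx lv [] x hx p hp).resolve_left List.not_mem_nil)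
  have h2 := allL_spec hc.1.2 l hl
  rw [Bool.and_eq_true, decide_eq_true_eq] at h2
  exact h1 ▸ h2.1

/-- all the indices are targets -/
def okJ (k : ℕ) (lv : List Lv) : Bool := (List.range k).all fun j => lv.any fun l => l.tg && l.j == j

/-- **the glue lemma for columns** -/
theorem glueC [Fintype G] (hm : T.Mass) {C : List (List ℤ)} {nm : List ℕ}
    (hO : Orth D ((List.range nm.length).map (rwL C)) nm) {lv : List Lv} {L q : ℕ}
    (hc : okQ nm.length nm lv L q = true) (hx : okJ nm.length lv = true)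
    (hv : ∀ x ∈ rels lv [], Virt T (cmb C x)) {φ : G → ℂ} (hφ : q * classInner φ φ = 1) (hi : Intg T φ) :
    ∀ j < nm.length, ∃ z : ℤ, classInner (fun g => (rw C j (T.ty g) : ℂ)) φ = z := by
  intro j hj
  obtain ⟨l, hl, h1⟩ := List.any_eq_true.1 (List.all_eq_true.1 hx j (List.mem_range.2 hj))
  rw [Bool.and_eq_true, beq_iff_eq] at h1
  have h2 := glueF hm hO (by rwa [List.length_map, List.length_range])
    (fun x hx => by rw [comb_rwL C (okQ_lt hc x hx)]; exact hv x hx) hφ hi l hl h1.1
  unfold fn at h2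
  rwa [h1.2, ntd_rwL C hj] at h2

/-- the rows are generalized characters -/
theorem virt_glueC [Finite G] (hm : T.Mass) {C : List (List ℤ)} {nm : List ℕ}
    (hO : Orth D ((List.range nm.length).map (rwL C)) nm) {lv : List Lv} {L : ℕ}
    (hc : okQ nm.length nm lv L 1 = true) (hx : okJ nm.length lv = true)
    (hv : ∀ x ∈ rels lv [], Virt T (cmb C x)) : ∀ j < nm.length, Virt T (rw C j) := by
  have := Fintype.ofFinite G
  intro j hj
  exact isGeneralizedCharacter_of_int (fun g c => by rw [T.conj]) fun χ hχ =>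
    glueC hm hO hc hx hv (by rw [classInner_irr_self hχ, Nat.cast_one, mul_one])
      (fun f hf => ⟨_, inner_mu hf ⟨χ, hχ⟩⟩) j hj

/-- the section has a certificate -/
def hasQ (CL : List (ℕ × ℕ × List Cert)) (l s : ℕ) : Bool := CL.any fun y => y.1 == l && y.2.2.any fun c => c.s == s

theorem good_of_hasQ [Finite G] (hN : Nat.card G = D.N) (hL : D.okLen) {seeds : List (List ℤ)}
    (hsd : ∀ sd ∈ seeds, Virt T (nth sd)) {CL : List (ℕ × ℕ × List Cert)} {tg : ℕ → List ℤ} {k : ℕ}
    (h : ∀ y ∈ CL, chkQ D y.1 y.2.1 (y.1 ^ y.2.1) seeds y.2.2 tg k = true) {l s : ℕ} (hc : hasQ CL l s = true) :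
    ∀ i < k, Eng.Good T l s fun t => nth (tg t) i := by
  simp only [hasQ, List.any_eq_true, Bool.and_eq_true, beq_iff_eq] at hc
  obtain ⟨y, hy, rfl, c, hc, rfl⟩ := hc
  exact good_of_chkQ hN hL (h y hy) hsd _ (List.mem_map_of_mem hc)

/-- each section has a certificate for the rows or for the combinations -/
theorem virt_two [Finite G] (hN : Nat.card G = D.N) (hL : D.okLen) {PL : List (ℕ × ℕ × List ℕ)}
    (hP : okPrimes D PL = true) {seeds : List (List ℤ)} (hsd : ∀ sd ∈ seeds, Virt T (nth sd))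
    {CL0 CL1 : List (ℕ × ℕ × List Cert)} {C : List (List ℤ)} {k : ℕ} {X : List (List (ℤ × ℕ))}
    (h0 : ∀ y ∈ CL0, chkQ D y.1 y.2.1 (y.1 ^ y.2.1) seeds y.2.2 (ntd C []) k = true)
    (h1 : ∀ y ∈ CL1, chkQ D y.1 y.2.1 (y.1 ^ y.2.1) seeds y.2.2 (cmbs C X) X.length = true)
    (hA : (PL.all fun x => x.2.2.all fun t => hasQ CL0 x.1 t || hasQ CL1 x.1 t) = true)
    (hk : ∀ x ∈ X, ∀ p ∈ x, p.2 < k) : ∀ x ∈ X, Virt T (cmb C x) := fun x hx =>
  virt_of_good hN hP fun y hy t ht => by
    have h2 := List.all_eq_true.1 (List.all_eq_true.1 hA y hy) t ht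
    rw [Bool.or_eq_true] at h2
    rcases h2 with h2 | h2
    · exact Good.cmb fun p hp => good_of_hasQ hN hL hsd h0 h2 _ (hk x hx p hp)
    · obtain ⟨i, hi, h3⟩ := nth_cmbs C X hx
      exact h3 ▸ good_of_hasQ hN hL hsd h1 h2 i hi

end glue

/-! ### Faithful characters -/

open Classical in
/-- **`OddRat` for a triple cover** -/
theorem oddRat_of_rows {X : Type u} [Group X] [Fintype X] {G : Type v} [Group G] (π : X →* G)
    (hs : Function.Surjective π) {z : X} (hz : z ∈ Subgroup.center X) (hk : π.ker = Subgroup.zpowers z)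
    (h3 : z ^ 3 = 1) (hG : OddRat G) {k : ℕ} (f : ℕ → X → ℤ) (b : ℕ → ℤ) {a a' : ℤ} (ha : a ≠ 0)
    (hb : ∀ x, ∑ i ∈ Finset.range k, b i * f i x = (if x = 1 then a else 0) - if π x = 1 then a' else 0)
    (hn : ∀ i < k, ∃ n : ℕ, n ≤ 4 ∧ classInner (fun x => (f i x : ℂ)) (fun x => (f i x : ℂ)) = n)
    (hp : ∀ i < k, f i 1 % 8 ≠ 4 ∨ ∃ x, Odd (orderOf x) ∧ f i x % 2 ≠ 0)
    (hi : ∀ φ : X → ℂ, (4 : ℕ) * classInner φ φ = 1 → (∀ g : X → ℤ, IsGeneralizedCharacter X (fun x => g x) →
      ∃ y : ℤ, classInner (fun x => (g x : ℂ)) φ = y) → ∀ i < k, ∃ y : ℤ, classInner (fun x => (f i x : ℂ)) φ = y) :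
    OddRat X := by
  intro χ hχ ho τ hτ
  by_contra hne
  obtain ⟨c, hc, hc3, -⟩ := ODD.Red.exists_central hχ hz
  replace hc3 := hc3 3 h3
  have hχ' := isIrr_isCharacter hχ
  by_cases hc1 : c = 1
  · obtain ⟨η, h1, h2⟩ := ODD.Red.exists_quot π hs hχ fun w hw => by
      rw [hk, ← mem_powers_iff_mem_zpowers] at hw
      obtain ⟨n, rfl⟩ := hw
      show χ (z ^ n) = χ 1
      induction n with
      | zero => rw [pow_zero]
      | succ n ih => rw [pow_succ', hc, hc1, one_mul, ih]
    refine hne fun g => ?_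
    rw [← h2]
    exact hG η h1 (by rwa [ODD.Red.charDegree_congr (ψ := χ) (by rw [← h2, map_one])]) τ hτ _
  obtain ⟨d, hd, hd1⟩ := (ODD.Red.odd_iff hχ').1 ho
  have hd0 : (d : ℂ) ≠ 0 := hd1 ▸ isIrr_apply_one_ne_zero hχ
  have hcz : χ z = c * d := by rw [← hd1, ← hc, mul_one]
  have hτc : τ c = c := hτ 3 c (by decide) hc3
  have hcc : conj c ≠ c := fun h => by
    have h1 : c ^ 2 + c + 1 = 0 := mul_left_cancel₀ (sub_ne_zero.2 hc1) (by linear_combination hc3)
    rw [← Complex.conj_eq_iff_re.1 h] at h1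
    have h2 : c.re ^ 2 + c.re + 1 = 0 := by exact_mod_cast h1
    nlinarith [sq_nonneg (2 * c.re + 1)]
  let s : ℂ ≃+* ℂ := starRingAut
  have hs' : ∀ w, s w = conj w := fun _ => rfl
  have key : ∀ (σ : ℂ ≃+* ℂ) (g : X → ℤ), classInner (fun x => (g x : ℂ)) (fun x => σ (χ x)) =
      σ (classInner (fun x => (g x : ℂ)) χ) := fun σ g => by
    rw [← GaloisIrr.classInner_map σ hχ']
    simp only [map_intCast]
  have i2 := GaloisIrr.isIrr_map τ hχ
  have i3 := GaloisIrr.isIrr_map s hχ
  have i4 := GaloisIrr.isIrr_map (τ.trans s) hχ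
  have n12 : χ ≠ fun x => τ (χ x) := fun h => hne fun g => (congrFun h g).symm
  have n34 : (fun x => s (χ x)) ≠ fun x => (τ.trans s) (χ x) := fun h =>
    hne fun g => (s.injective (congrFun h g)).symm
  have v2 : τ (χ z) = c * d := by rw [hcz, map_mul, hτc, map_natCast]
  have v3 : s (χ z) = conj c * d := by rw [hcz, map_mul, hs', map_natCast]
  have v4 : (τ.trans s) (χ z) = conj c * d := by rw [RingEquiv.trans_apply, v2, map_mul, hs', map_natCast]
  have n13 : χ ≠ fun x => s (χ x) := fun h => hcc (mul_right_cancel₀ hd0 (v3.symm.trans ((congrFun h z).symm.trans hcz)))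
  have n14 : χ ≠ fun x => (τ.trans s) (χ x) := fun h =>
    hcc (mul_right_cancel₀ hd0 (v4.symm.trans ((congrFun h z).symm.trans hcz)))
  have n23 : (fun x => τ (χ x)) ≠ fun x => s (χ x) := fun h =>
    hcc (mul_right_cancel₀ hd0 (v3.symm.trans ((congrFun h z).symm.trans v2)))
  have n24 : (fun x => τ (χ x)) ≠ fun x => (τ.trans s) (χ x) := fun h =>
    hcc (mul_right_cancel₀ hd0 (v4.symm.trans ((congrFun h z).symm.trans v2)))
  obtain ⟨ψ, hψ⟩ : ∃ ψ : X → ℂ, ψ = χ + (fun x => τ (χ x)) + (fun x => s (χ x)) + fun x => (τ.trans s) (χ x) :=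
    ⟨_, rfl⟩
  have hψ4 : classInner ψ ψ = 4 := by
    simp only [hψ, classInner_add_left, classInner_add_right, classInner_irr_self hχ, classInner_irr_self i2,
      classInner_irr_self i3, classInner_irr_self i4, classInner_irr_ne hχ i2 n12, classInner_irr_ne hχ i3 n13,
      classInner_irr_ne hχ i4 n14, classInner_irr_ne i2 i3 n23, classInner_irr_ne i2 i4 n24,
      classInner_irr_ne i3 i4 n34, classInner_irr_ne i2 hχ n12.symm, classInner_irr_ne i3 hχ n13.symm,
      classInner_irr_ne i4 hχ n14.symm, classInner_irr_ne i3 i2 n23.symm, classInner_irr_ne i4 i2 n24.symm,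
      classInner_irr_ne i4 i3 n34.symm]
    norm_num
  have hq : ∀ (g : X → ℤ) (q : ℚ), classInner (fun x => (g x : ℂ)) χ = q →
      classInner (fun x => (g x : ℂ)) (((4⁻¹ : ℚ) : ℂ) • ψ) = q := fun g q h => by
    rw [classInner_smul_right, hψ, classInner_add_right, classInner_add_right, classInner_add_right, key, key, key, h]
    simp only [map_ratCast]
    push_cast
    ring
  have h1 := hi (((4⁻¹ : ℚ) : ℂ) • ψ) (by
    rw [classInner_smul_left, classInner_smul_right, hψ4, map_ratCast]
    push_cast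
    ring) fun g hg => ⟨mu hg ⟨χ, hχ⟩, (hq g (mu hg ⟨χ, hχ⟩) ((inner_mu hg ⟨χ, hχ⟩).trans (Rat.cast_intCast _).symm)).trans
      (Rat.cast_intCast _)⟩
  have hπz : π z = 1 := by
    rw [← MonoidHom.mem_ker, hk]
    exact Subgroup.mem_zpowers z
  have hS : ∑ x, (if π x = 1 then conj (χ x) else 0) = 0 := by
    have h2 : ∑ x, (if π x = 1 then conj (χ x) else 0) = conj c * ∑ x, (if π x = 1 then conj (χ x) else 0) := by
      rw [Finset.mul_sum]
      refine (Fintype.sum_equiv (Equiv.mulLeft z) _ _ fun x => ?_).symm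
      rw [Equiv.coe_mulLeft, map_mul, hπz, one_mul, hc, map_mul, mul_ite, mul_zero]
    by_contra h4
    refine hc1 ((starRingEnd ℂ).injective (mul_right_cancel₀ h4 ?_))
    rw [← h2, map_one, one_mul]
  have h2 := hq (fun x => ∑ i ∈ Finset.range k, b i * f i x) ((Nat.card X : ℚ)⁻¹ * (a * d)) (by
    simp only [hb, classInner_def, Int.cast_sub, sub_mul, Finset.sum_sub_distrib, apply_ite ((↑) : ℤ → ℂ),
      Int.cast_zero, ite_mul, zero_mul, Finset.sum_ite_eq', Finset.mem_univ, if_true, hd1, map_natCast]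
    have h4 : ∑ x, (if π x = 1 then (a' : ℂ) * conj (χ x) else 0) = a' * ∑ x, if π x = 1 then conj (χ x) else 0 := by
      simp only [Finset.mul_sum, mul_ite, mul_zero]
    rw [h4, hS]
    push_cast
    ring)
  have h4 : (fun x => ((∑ i ∈ Finset.range k, b i * f i x : ℤ) : ℂ)) =
      ∑ i ∈ Finset.range k, (b i : ℂ) • fun x => (f i x : ℂ) := by
    funext x
    simp only [Int.cast_sum, Int.cast_mul, Finset.sum_apply, Pi.smul_apply, smul_eq_mul]
  rw [h4, classInner_sum_left] at h2
  obtain ⟨i, hik, h5⟩ := Finset.exists_ne_zero_of_sum_ne_zero (h2.trans_ne <| by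
    have h6 : (Nat.card X : ℂ) ≠ 0 := card_ne_zero_complex
    have h7 : (a : ℂ) ≠ 0 := by exact_mod_cast ha
    push_cast
    exact mul_ne_zero (inv_ne_zero h6) (mul_ne_zero h7 hd0))
  rw [Finset.mem_range] at hik
  obtain ⟨y, hy⟩ := h1 i hik
  obtain ⟨n, hn4, hn⟩ := hn i hik
  rw [classInner_smul_left, hy] at h5
  have hy0 : y ≠ 0 := fun h => h5 (by rw [h, Int.cast_zero, mul_zero])
  have h6 : classInner (fun x => (f i x : ℂ)) ψ = 4 * y := by
    rw [← hy, classInner_smul_right, map_ratCast]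
    push_cast
    ring
  have h7 : classInner ((y : ℂ) • ψ - fun x => (f i x : ℂ)) ((y : ℂ) • ψ - fun x => (f i x : ℂ)) =
      ((n - 4 * (y * y) : ℤ) : ℂ) := by
    have h8 := congrArg conj h6
    rw [classInner_conj_symm, map_mul, map_intCast, map_ofNat] at h8
    simp only [classInner_sub_left, classInner_sub_right, classInner_smul_left, classInner_smul_right, hψ4, h6, h8, hn,
      map_intCast]
    push_cast
    ring
  have h8 : (0 : ℤ) ≤ n - 4 * (y * y) := by
    rw [classInner_self_eq_ofReal] at h7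
    have h9 : (0 : ℝ) ≤ ((n - 4 * (y * y) : ℤ) : ℝ) := by
      rw [← Complex.ofReal_injective (h7.trans (Complex.ofReal_intCast _).symm)]
      exact mul_nonneg (inv_nonneg.2 (Nat.cast_nonneg _)) (Finset.sum_nonneg fun g _ => Complex.normSq_nonneg _)
    exact_mod_cast h9
  have h9 : 0 < y * y := mul_self_pos.2 hy0
  have h10 : y * y = 1 := by omega
  rw [show (n : ℤ) - 4 * (y * y) = 0 by omega, Int.cast_zero] at h7
  have h11 : ∀ x, (f i x : ℂ) = y * (χ x + τ (χ x) + s (χ x) + s (τ (χ x))) := fun x => by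
    have h12 := congrFun (classInner_self_eq_zero h7) x
    rw [hψ] at h12
    exact (sub_eq_zero.1 h12).symm
  rcases hp i hik with h12 | ⟨x, h12, h13⟩
  · have h13 := h11 1
    simp only [hd1, map_natCast] at h13
    have h14 : f i 1 = y * (d + d + d + d) := by exact_mod_cast h13
    obtain ⟨m, rfl⟩ := hd
    rcases Int.eq_one_or_neg_one_of_mul_eq_one h10 with rfl | rfl <;> omega
  · have h14 : τ (χ x) = χ x := by
      have h15 := GaloisBasic.map_apply (τ : ℂ →+* ℂ) (m := 1) (fun w hw => (hτ _ w h12 hw).trans (pow_one w).symm)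
        hχ' (orderOf_pos x).ne' (pow_orderOf_eq_one x)
      rwa [pow_one] at h15
    refine h13 (even_of_integral (x := y * (χ x + s (χ x))) ((isIntegral_algebraMap (R := ℤ) (A := ℂ) (x := y)).mul
      ((GaloisBasic.isIntegral_apply hχ' x).add (GaloisBasic.isIntegral_apply (isIrr_isCharacter i3) x))) ?_)
    rw [h11, h14]
    ring

/-- the check of the rows : norms, parities, and the faithful part of the regular character -/
noncomputable def okF (D : Dat) (C : List (List ℤ)) (b : List ℤ) (pr : List ℕ) (a a' : ℤ) : Bool :=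
  decide (0 < D.n) && D.ord 0 == 1 && decide (0 < D.cnt 0) && a != 0 &&
    allL (fun i => frcLZ (rwL C i) fun r => frcZ (ip D r r) fun w =>
      ((List.range 5).any fun n => decide (w = D.N * (n : ℕ))) &&
        (nth r 0 % 8 != 4 || (List.range D.n).any fun t =>
          nth r t % 2 != 0 && D.ord t % 2 == 1 && decide (0 < D.cnt t))) (List.range b.length) &&
    allL (fun t => decide (dotL b (ntd C [] t) = (if t = 0 then a else 0) - if pr.getD t 0 = 0 then a' else 0))
      (List.range D.n)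

/-- the combination starts with the row `i` and continues with rows of index less than `k` -/
def okE (k m : ℕ) (E : List (List (ℤ × ℕ))) : Bool :=
  (List.range m).all fun i => decide (i < k) || E.any fun x => x.head? == some (1, i) && x.tail.all fun p => p.2 < k

/-- **`OddRat` for a triple cover, decidable form** : the first rows are orthogonal and glued, the others are virtual
modulo the first rows -/
theorem oddRat_of_cols {X : Type u} [Group X] [Finite X] {G : Type v} [Group G] (π : X →* G)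
    (hs : Function.Surjective π) {z : X} (hz : z ∈ Subgroup.center X) (hk : π.ker = Subgroup.zpowers z)
    (h3 : z ^ 3 = 1) (hG : OddRat G) {D : Dat} {T : TD X D} (hm : T.Mass) (hL : D.okLen) {pr : List ℕ}
    (hpr : ∀ x, π x = 1 ↔ pr.getD (T.ty x) 0 = 0) {C : List (List ℤ)} {nm : List ℕ}
    (hO : Orth D ((List.range nm.length).map (rwL C)) nm) {lv : List Lv} {L : ℕ}
    (hc : okQ nm.length nm lv L 4 = true) (hx : okJ nm.length lv = true) {E : List (List (ℤ × ℕ))}
    (hv : ∀ x ∈ rels lv [] ++ E, Virt T (cmb C x)) {b : List ℤ} (hE : okE nm.length b.length E = true) {a a' : ℤ}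
    (hF : okF D C b pr a a' = true) : OddRat X := by
  classical
  have := Fintype.ofFinite X
  simp only [okF, Bool.and_eq_true, decide_eq_true_eq, beq_iff_eq, bne_iff_ne] at hF
  obtain ⟨⟨⟨⟨⟨a1, a2⟩, a3⟩, a4⟩, a5⟩, a6⟩ := hF
  have h0 := TD.ty_eq_zero hm a1 a2 a3
  have a7 : ∀ i < b.length, _ := fun i hi => by
    have h := allL_spec a5 i (List.mem_range.2 hi)
    simp only [frcLZ_eq, frcZ_eq, Bool.and_eq_true, List.any_eq_true, List.mem_range, decide_eq_true_eq,
      Bool.or_eq_true, bne_iff_ne, beq_iff_eq, nth_rwL] at h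
    exact h
  refine oddRat_of_rows π hs hz hk h3 hG (k := b.length) (fun i x => rw C i (T.ty x)) (nth b) a4 (a' := a')
    (fun x => ?_) (fun i hi => ?_) (fun i hi => ?_) fun φ hφ hi i hib => ?_
  · have h1 := of_decide_eq_true (allL_spec a6 _ (List.mem_range.2 (T.lt x)))
    rw [dotL_eq b _ le_rfl] at h1
    simp only [h0, ← hpr] at h1
    exact h1
  · obtain ⟨n, h1, h2⟩ := (a7 i hi).1
    have h4 := inner_of_ip hm hL.2.1 h2
    unfold fn at h4
    rw [nth_rwL] at h4
    exact ⟨n, Nat.le_of_lt_succ h1, h4.trans (Int.cast_natCast n)⟩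
  · rcases (a7 i hi).2 with h1 | ⟨t, ht, ⟨h1, h2⟩, h4⟩
    · exact Or.inl (by rwa [(h0 1).2 rfl])
    · rw [← hm.2 t ht] at h4
      obtain ⟨⟨x, rfl⟩⟩ := (Nat.card_pos_iff.1 h4).1
      exact Or.inr ⟨x, by rw [T.ord]; exact Nat.odd_iff.2 h2, h1⟩
  · have h1 : Intg T φ := fun f hf => hi (fun x => f (T.ty x)) hf
    have h2 := glueC hm hO hc hx (fun x hx => hv x (List.mem_append_left _ hx)) hφ h1
    have h4 := List.all_eq_true.1 hE i (List.mem_range.2 hib)
    simp only [Bool.or_eq_true, decide_eq_true_eq, List.any_eq_true, Bool.and_eq_true, beq_iff_eq,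
      List.all_eq_true] at h4
    rcases h4 with h4 | ⟨x, h4, h5, h6⟩
    · exact h2 i h4
    · have h7 : ∀ c : List (ℤ × ℕ), (∀ p ∈ c, p.2 < nm.length) →
          ∃ y : ℤ, classInner (fun g => (cmb C c (T.ty g) : ℂ)) φ = y := fun c hc => by
        induction c with
        | nil => exact ⟨0, (classInner_zero_left φ ▸ congrArg (classInner · φ) (funext fun g => Int.cast_zero)).trans
            Int.cast_zero.symm⟩
        | cons p c ih =>
          obtain ⟨y, hy⟩ := ih fun q hq => hc q (List.mem_cons_of_mem _ hq)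
          obtain ⟨w, hw⟩ := h2 _ (hc p List.mem_cons_self)
          refine ⟨p.1 * w + y, ?_⟩
          rw [Int.cast_add, Int.cast_mul, ← hy, ← hw, ← classInner_smul_left, ← classInner_add_left]
          congr 1
          funext g
          simp only [cmb_cons, Int.cast_add, Int.cast_mul, Pi.add_apply, Pi.smul_apply, smul_eq_mul]
      cases x with
      | nil => cases h5
      | cons p c =>
        obtain rfl : p = (1, i) := Option.some.inj h5
        obtain ⟨y, hy⟩ := h7 c h6
        obtain ⟨w, hw⟩ := h1 _ (hv _ (List.mem_append_right _ h4))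
        refine ⟨w - y, ?_⟩
        rw [Int.cast_sub, ← hy, ← hw, ← classInner_sub_left]
        congr 1
        funext g
        simp only [cmb_cons, Int.cast_add, one_mul, Pi.sub_apply, add_sub_cancel_right]

end Cfsg.Agent.TAB.Cov
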